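import Mathlib
import Cfsg.Agent.TwoGroupsQ.UniqueInvolution
import Cfsg.Agent.UniqueSylow.Basic

/-!
If every 2-element has a conjugacy class of odd size then Sylow 2-subgroups are abelian (Camina–Herzog).

Elementary proof: elements of 2-power order inverted by a conjugation are involutions, so the involutions of
a Sylow subgroup `S` form an elementary abelian subgroup `E`; every subgroup conjugation preserves
`C_S(E)`, so `C_S(E) = S`; then centralisers and quotients inherit the hypothesis.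
-/

namespace CfsgLib.OddClassTwo

open Subgroup
open scoped Pointwise

variable {G : Type*} [Group G]

/-- Every 2-element has a class of odd size. -/
def Hyp (G : Type*) [Group G] : Prop :=
  ∀ x : G, (∃ k : ℕ, orderOf x = 2 ^ k) → ¬ 2 ∣ (centralizer ({x} : Set G)).index

variable [Finite G]

theorem exists_sylow_centralizing (h : Hyp G) {x : G} (hx : ∃ k : ℕ, orderOf x = 2 ^ k) :
    ∃ T : Sylow 2 G, x ∈ T ∧ ∀ t ∈ T, t * x = x * t := by
  have hT : ∃ T : Sylow 2 G, (T : Subgroup G) ≤ centralizer {x} := by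
    obtain ⟨U⟩ : Nonempty (Sylow 2 (centralizer ({x} : Set G))) := inferInstance
    obtain ⟨T, hT⟩ := (U.2.map (centralizer ({x} : Set G)).subtype).exists_le_sylow
    refine ⟨T, ?_⟩
    have hc : Nat.card ((U : Subgroup _).map (centralizer ({x} : Set G)).subtype) = Nat.card (T : Subgroup G) := by
      rw [Subgroup.card_map_of_injective (Subgroup.subtype_injective _), U.card_eq_multiplicity, T.card_eq_multiplicity, ← (centralizer ({x} : Set G)).card_mul_index,
        Nat.factorization_mul Nat.card_pos.ne' index_ne_zero_of_finite, Finsupp.add_apply,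
        Nat.factorization_eq_zero_of_not_dvd (h x hx), add_zero]
    rw [← Subgroup.eq_of_le_of_card_ge hT hc.ge]
    exact map_subtype_le _
  obtain ⟨T, hT⟩ := hT
  have hcomm : ∀ t ∈ T, t * x = x * t := fun t ht => mem_centralizer_singleton_iff.mp (hT ht)
  obtain ⟨k, hk⟩ := hx
  refine ⟨T, CfsgLib.UniqueSylow.mem_sylow_of_normalizes
    (CfsgLib.UniqueSylow.isPGroup_zpowers_of_orderOf hk) T (centralizer_le_normalizer _ ?_), hcomm⟩
  rw [mem_centralizer_iff]
  exact fun t ht => hcomm t ht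

/-- A real element of 2-power order squares to one. -/
theorem sq_eq_one_of_inverted (h : Hyp G) {x g : G} (hx : ∃ k : ℕ, orderOf x = 2 ^ k) (hg : g * x * g⁻¹ = x⁻¹) :
    x * x = 1 := by
  obtain ⟨T, hxT, hT⟩ := exists_sylow_centralizing h hx
  set C := centralizer ({x} : Set G) with hC
  have hTC : (T : Subgroup G) ≤ C := fun t ht => mem_centralizer_singleton_iff.mpr (hT t ht)
  have hgC : ∀ t ∈ T, g * t * g⁻¹ ∈ C := by
    intro t ht
    rw [hC, mem_centralizer_singleton_iff]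
    have e1 : g * t * g⁻¹ * x⁻¹ = x⁻¹ * (g * t * g⁻¹) := by
      rw [← hg]
      calc g * t * g⁻¹ * (g * x * g⁻¹) = g * (t * x) * g⁻¹ := by group
        _ = g * (x * t) * g⁻¹ := by rw [hT t ht]
        _ = g * x * g⁻¹ * (g * t * g⁻¹) := by group
    exact (inv_inv x ▸ (show Commute (g * t * g⁻¹) x⁻¹ from e1).inv_right).eq
  have hle : ((g • T : Sylow 2 G) : Subgroup G) ≤ C := by
    rw [Sylow.coe_subgroup_smul]
    rintro _ ⟨t, ht, rfl⟩
    exact hgC t ht
  obtain ⟨⟨c, hc⟩, hc'⟩ := MulAction.exists_smul_eq C ((g • T).subtype hle) (T.subtype hTC)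
  have hcT : c • g • T = T := by
    have h1 : ((⟨c, hc⟩ : C) • ((g • T).subtype hle)) = (c • g • T).subtype (Sylow.smul_le hle ⟨c, hc⟩) := Sylow.smul_subtype hle _
    rw [h1] at hc'
    exact Sylow.subtype_injective hc'
  rw [← mul_smul] at hcT
  have hn := Sylow.smul_eq_iff_mem_normalizer.mp hcT
  set n := c * g with hndef
  have hnx : n * x * n⁻¹ = x⁻¹ := by
    have hcx : c * x = x * c := mem_centralizer_singleton_iff.mp hc
    calc n * x * n⁻¹ = c * (g * x * g⁻¹) * c⁻¹ := by rw [hndef]; group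
      _ = c * x⁻¹ * c⁻¹ := by rw [hg]
      _ = x⁻¹ := by rw [(Commute.inv_right hcx).eq, mul_inv_cancel_right]
  have hpow : ∀ j : ℕ, n ^ j * x * (n ^ j)⁻¹ = if Even j then x else x⁻¹ := by
    intro j
    induction j with
    | zero => simp
    | succ j ih =>
      rw [pow_succ', show n * n ^ j * x * (n * n ^ j)⁻¹ = n * (n ^ j * x * (n ^ j)⁻¹) * n⁻¹ by group, ih]
      by_cases hj : Even j
      · simp [hj, Nat.even_add_one, hnx]
      · simp only [hj, if_false, Nat.even_add_one, not_false_iff, if_true]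
        rw [← conj_inv, hnx, inv_inv]
  obtain ⟨a, m, hm, hord⟩ : ∃ a m : ℕ, Odd m ∧ orderOf n = 2 ^ a * m := by
    obtain ⟨a, m, hm, e⟩ := Nat.exists_eq_two_pow_mul_odd (orderOf_pos n).ne'
    exact ⟨a, m, hm, e⟩
  have h2 : IsPGroup 2 (zpowers (n ^ m)) := IsPGroup.of_card_dvd_pow (n := a) (by
    rw [Nat.card_zpowers]
    exact orderOf_dvd_of_pow_eq_one (by rw [← pow_mul, mul_comm, ← hord, pow_orderOf_eq_one]))
  have hnm : n ^ m ∈ (T : Subgroup G) :=
    CfsgLib.UniqueSylow.mem_sylow_of_normalizes h2 T (Subgroup.pow_mem _ hn m)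
  have h3 := hpow m
  rw [if_neg (Nat.not_even_iff_odd.mpr hm), hT _ hnm, mul_inv_cancel_right] at h3
  nth_rw 2 [h3]
  exact mul_inv_cancel x

theorem commute_involutions (h : Hyp G) {t u : G} (ht : t * t = 1) (hu : u * u = 1)
    (htu : ∃ k : ℕ, orderOf (t * u) = 2 ^ k) : t * u = u * t := by
  have ht' : t⁻¹ = t := inv_eq_of_mul_eq_one_right ht
  have hu' : u⁻¹ = u := inv_eq_of_mul_eq_one_right hu
  have hinv : t * (t * u) * t⁻¹ = (t * u)⁻¹ := by
    rw [← mul_assoc, ht, one_mul, mul_inv_rev, hu']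
  have h1 := inv_eq_of_mul_eq_one_right (sq_eq_one_of_inverted h htu hinv)
  rw [mul_inv_rev, ht', hu'] at h1
  exact h1.symm

theorem two_pow_of_mem {S : Subgroup G} (hS : IsPGroup 2 S) {x : G} (hx : x ∈ S) : ∃ k : ℕ, orderOf x = 2 ^ k := by
  obtain ⟨k, hk⟩ := IsPGroup.iff_orderOf.mp hS ⟨x, hx⟩
  exact ⟨k, by rwa [Subgroup.orderOf_mk] at hk⟩

theorem commute_of_mem (h : Hyp G) {S : Subgroup G} (hS : IsPGroup 2 S) {t u : G} (ht : t ∈ S) (hu : u ∈ S)
    (ht2 : t * t = 1) (hu2 : u * u = 1) : t * u = u * t :=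
  commute_involutions h ht2 hu2 (two_pow_of_mem hS (mul_mem ht hu))

/-- The elements `k` normalising `Q` with `[k, q]` an involution of `Q` or one, for all `q ∈ Q`. -/
def stab (h : Hyp G) {Q : Subgroup G} (hQ : IsPGroup 2 Q) : Subgroup G where
  carrier := {k | k ∈ normalizer (Q : Set G) ∧ ∀ q ∈ Q, (k * q * k⁻¹ * q⁻¹) * (k * q * k⁻¹ * q⁻¹) = 1}
  one_mem' := ⟨one_mem _, fun q _ => by simp⟩
  mul_mem' := by
    rintro k k' ⟨hk, hk2⟩ ⟨hk', hk2'⟩
    refine ⟨mul_mem hk hk', fun q hq => ?_⟩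
    have hq' : k' * q * k'⁻¹ ∈ Q := (mem_normalizer_iff.mp hk' q).mp hq
    have hA : k' * q * k'⁻¹ * q⁻¹ ∈ Q := mul_mem hq' (inv_mem hq)
    have hA' : k * (k' * q * k'⁻¹ * q⁻¹) * k⁻¹ ∈ Q := (mem_normalizer_iff.mp hk _).mp hA
    have hB : k * q * k⁻¹ * q⁻¹ ∈ Q := mul_mem ((mem_normalizer_iff.mp hk q).mp hq) (inv_mem hq)
    set A := k * (k' * q * k'⁻¹ * q⁻¹) * k⁻¹ with hAdef
    set B := k * q * k⁻¹ * q⁻¹ with hBdef
    have hA2 : A * A = 1 := by
      calc A * A = k * ((k' * q * k'⁻¹ * q⁻¹) * (k' * q * k'⁻¹ * q⁻¹)) * k⁻¹ := by rw [hAdef]; group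
        _ = 1 := by rw [hk2' q hq]; group
    have hB2 : B * B = 1 := hk2 q hq
    have e : k * k' * q * (k * k')⁻¹ * q⁻¹ = A * B := by rw [hAdef, hBdef]; group
    rw [e, mul_assoc, ← mul_assoc B, ← commute_of_mem h hQ hA' hB hA2 hB2, mul_assoc A, hB2, mul_one, hA2]
  inv_mem' := by
    rintro k ⟨hk, hk2⟩
    refine ⟨inv_mem hk, fun q hq => ?_⟩
    have hq' : k⁻¹ * q * k ∈ Q := by
      have := (mem_normalizer_iff.mp (inv_mem hk) q).mp hq
      rwa [inv_inv] at this
    set B := k * (k⁻¹ * q * k) * k⁻¹ * (k⁻¹ * q * k)⁻¹ with hBdef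
    have hB : B * B = 1 := hk2 _ hq'
    calc k⁻¹ * q * k⁻¹⁻¹ * q⁻¹ * (k⁻¹ * q * k⁻¹⁻¹ * q⁻¹) = (B * B)⁻¹ := by rw [hBdef]; group
      _ = 1 := by rw [hB, inv_one]

variable (S : Sylow 2 G)

/-- The involutions of a Sylow subgroup, with one. -/
def invol (h : Hyp G) : Subgroup G where
  carrier := {t | t ∈ (S : Subgroup G) ∧ t * t = 1}
  one_mem' := ⟨one_mem _, one_mul 1⟩
  mul_mem' := by
    rintro t u ⟨ht, ht2⟩ ⟨hu, hu2⟩
    refine ⟨mul_mem ht hu, ?_⟩
    rw [mul_assoc, ← mul_assoc u, ← commute_of_mem h S.2 ht hu ht2 hu2, mul_assoc t, hu2, mul_one, ht2]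
  inv_mem' := by
    rintro t ⟨ht, ht2⟩
    exact ⟨inv_mem ht, by rw [← mul_inv_rev, ht2, inv_one]⟩

/-- Its centraliser in the Sylow subgroup. -/
def cent (h : Hyp G) : Subgroup G := (S : Subgroup G) ⊓ centralizer (invol S h : Set G)

theorem invol_le_cent (h : Hyp G) : invol S h ≤ cent S h := by
  intro t ht
  refine Subgroup.mem_inf.mpr ⟨ht.1, mem_centralizer_iff.mpr fun u hu => ?_⟩
  exact commute_of_mem h S.2 hu.1 ht.1 hu.2 ht.2

theorem conj_mem_cent (h : Hyp G) {q r : G} (hq : q ∈ (S : Subgroup G)) (hr : r ∈ cent S h) :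
    q * r * q⁻¹ ∈ cent S h := by
  obtain ⟨hr1, hr2⟩ := Subgroup.mem_inf.mp hr
  refine Subgroup.mem_inf.mpr ⟨mul_mem (mul_mem hq hr1) (inv_mem hq), mem_centralizer_iff.mpr fun t ht => ?_⟩
  have ht' : q⁻¹ * t * q ∈ invol S h := ⟨mul_mem (mul_mem (inv_mem hq) ht.1) hq, by
    calc q⁻¹ * t * q * (q⁻¹ * t * q) = q⁻¹ * (t * t) * q := by group
      _ = 1 := by rw [ht.2]; group⟩
  calc t * (q * r * q⁻¹) = q * ((q⁻¹ * t * q) * r) * q⁻¹ := by group
    _ = q * (r * (q⁻¹ * t * q)) * q⁻¹ := by rw [mem_centralizer_iff.mp hr2 _ ht']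
    _ = q * r * q⁻¹ * t := by group

/-- Every conjugation between subgroups of `S` maps `cent S h` into itself. -/
theorem conj_cent (h : Hyp G) : ∀ j : ℕ, ∀ Q : Subgroup G, Q ≤ (S : Subgroup G) →
    Nat.card (S : Subgroup G) ≤ Nat.card Q + j →
    ∀ g : G, (∀ q ∈ Q, g * q * g⁻¹ ∈ (S : Subgroup G)) → ∀ r ∈ Q, r ∈ cent S h → g * r * g⁻¹ ∈ cent S h := by
  classical
  intro j
  induction j using Nat.strong_induction_on with
  | _ j ih =>
  intro Q hQS hj g hg r hr hrR
  set E := invol S h with hE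
  by_cases hEQ : E ≤ Q
  · refine Subgroup.mem_inf.mpr ⟨hg r hr, mem_centralizer_iff.mpr fun t ht => ?_⟩
    have hmap : E.map (MulAut.conj g).toMonoidHom = E := by
      refine Subgroup.eq_of_le_of_card_ge ?_
        (Nat.card_congr (E.equivMapOfInjective _ (MulAut.conj g).injective).toEquiv).le
      rintro _ ⟨u, hu, rfl⟩
      refine ⟨hg u (hEQ hu), ?_⟩
      rw [← map_mul, hu.2, map_one]
    have ht' : t ∈ E.map (MulAut.conj g).toMonoidHom := hmap.symm ▸ ht
    obtain ⟨u, hu, rfl⟩ := ht'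
    show g * u * g⁻¹ * (g * r * g⁻¹) = g * r * g⁻¹ * (g * u * g⁻¹)
    have hur := mem_centralizer_iff.mp (Subgroup.mem_inf.mp hrR).2 u hu
    calc g * u * g⁻¹ * (g * r * g⁻¹) = g * (u * r) * g⁻¹ := by group
      _ = g * (r * u) * g⁻¹ := by rw [hur]
      _ = g * r * g⁻¹ * (g * u * g⁻¹) := by group
  -- the grown subgroups
  set Q' := Q.map (MulAut.conj g).toMonoidHom with hQ'
  have hQ'S : Q' ≤ (S : Subgroup G) := by rintro _ ⟨q, hq, rfl⟩; exact hg q hq
  have hQ2 : IsPGroup 2 Q := S.2.to_le hQS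
  have hQ2' : IsPGroup 2 Q' := S.2.to_le hQ'S
  have hcardQ : Nat.card Q' = Nat.card Q :=
    (Nat.card_congr (Q.equivMapOfInjective _ (MulAut.conj g).injective).toEquiv).symm
  have hgrow : ∀ (A : Subgroup G), A ≤ (S : Subgroup G) → ¬ E ≤ A → Nat.card A < Nat.card (A ⊔ (E ⊓ normalizer (A : Set G)) : Subgroup G) := by
    intro A hAS hEA
    refine lt_of_le_of_ne (Subgroup.card_le_of_le le_sup_left) fun e => ?_
    have hle : E ⊓ normalizer (A : Set G) ≤ A := le_sup_right.trans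
      (Subgroup.eq_of_le_of_card_ge (le_sup_left : A ≤ A ⊔ (E ⊓ normalizer (A : Set G))) e.ge).ge
    have hEn : A ≤ normalizer (E : Set G) := by
      intro a ha
      rw [mem_normalizer_iff]
      have key : ∀ b ∈ (S : Subgroup G), ∀ t ∈ E, b * t * b⁻¹ ∈ E := fun b hb t ht =>
        ⟨mul_mem (mul_mem hb ht.1) (inv_mem hb), by
          calc b * t * b⁻¹ * (b * t * b⁻¹) = b * (t * t) * b⁻¹ := by group
            _ = 1 := by rw [ht.2]; group⟩
      refine fun t => ⟨key a (hAS ha) t, fun ht => ?_⟩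
      have := key a⁻¹ (inv_mem (hAS ha)) _ ht
      simpa [mul_assoc] using this
    set U := A ⊔ E with hU
    have hUS : U ≤ (S : Subgroup G) := sup_le hAS fun t ht => ht.1
    have : Group.IsNilpotent U := (S.2.to_le hUS).isNilpotent
    have hne : A.subgroupOf U < ⊤ := by
      refine lt_top_iff_ne_top.mpr fun htop => hEA ?_
      rw [subgroupOf_eq_top] at htop
      exact le_sup_right.trans htop
    have hlt := Group.normalizerCondition_of_isNilpotent (A.subgroupOf U) hne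
    refine hlt.not_ge fun y hy => ?_
    have hy2 : (y : G) ∈ ((A ⊔ E : Subgroup G) : Set G) := y.2
    rw [Subgroup.coe_mul_of_left_le_normalizer_right A E hEn] at hy2
    obtain ⟨a, ha, e', he', hye⟩ := Set.mem_mul.mp hy2
    have hyn : (y : G) ∈ normalizer (A : Set G) := by
      rw [mem_normalizer_iff]
      intro w
      constructor
      · intro hw
        have := (mem_normalizer_iff.mp hy ⟨w, (le_sup_left : A ≤ U) hw⟩).mp hw
        exact this
      · intro hw
        have hwU : w ∈ U := by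
          have := mul_mem (mul_mem (inv_mem y.2) ((le_sup_left : A ≤ U) hw)) y.2
          simpa [mul_assoc] using this
        exact (mem_normalizer_iff.mp hy ⟨w, hwU⟩).mpr hw
    show (y : G) ∈ A
    rw [← hye] at hyn ⊢
    refine mul_mem ha (hle (Subgroup.mem_inf.mpr ⟨he', ?_⟩))
    have := mul_mem (inv_mem (le_normalizer ha)) hyn
    rwa [inv_mul_cancel_left] at this
  set K := stab h hQ2 with hK
  set K' := stab h hQ2' with hK'
  have hstabconj : (K ⊔ Q).map (MulAut.conj g).toMonoidHom ≤ K' ⊔ Q' := by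
    rw [Subgroup.map_sup]
    refine sup_le_sup ?_ le_rfl
    rintro _ ⟨k, ⟨hk, hk2⟩, rfl⟩
    refine ⟨?_, ?_⟩
    · have := Subgroup.mem_map_of_mem (MulAut.conj g).toMonoidHom hk
      rw [Subgroup.map_equiv_normalizer_eq] at this
      exact this
    · rintro _ ⟨q, hq, rfl⟩
      simp only [MulEquiv.coe_toMonoidHom, ← map_inv, ← map_mul]
      rw [hk2 q hq, map_one]
  have hinK : ∀ (A : Subgroup G) (hA : IsPGroup 2 A), A ≤ (S : Subgroup G) → E ⊓ normalizer (A : Set G) ≤ stab h hA := by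
    intro A hA hAS t ht
    obtain ⟨htE, htN⟩ := Subgroup.mem_inf.mp ht
    refine ⟨htN, fun q hq => ?_⟩
    have hqS := hAS hq
    have h1 : q * t⁻¹ * q⁻¹ ∈ E := by
      refine ⟨mul_mem (mul_mem hqS (inv_mem htE.1)) (inv_mem hqS), ?_⟩
      calc q * t⁻¹ * q⁻¹ * (q * t⁻¹ * q⁻¹) = q * (t * t)⁻¹ * q⁻¹ := by group
        _ = 1 := by rw [htE.2]; group
    have h2 := mul_mem htE h1
    rw [show t * (q * t⁻¹ * q⁻¹) = t * q * t⁻¹ * q⁻¹ by group] at h2
    exact h2.2
  set Q1 := Q ⊔ (E ⊓ normalizer (Q : Set G)) with hQ1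
  set Q1' := Q' ⊔ (E ⊓ normalizer (Q' : Set G)) with hQ1'
  have hQ1S : Q1 ≤ (S : Subgroup G) := sup_le hQS (inf_le_left.trans fun t ht => ht.1)
  have hQ1'S : Q1' ≤ (S : Subgroup G) := sup_le hQ'S (inf_le_left.trans fun t ht => ht.1)
  have hEQ' : ¬ E ≤ Q' := by
    intro hle
    apply hEQ
    have hmap : E.map (MulAut.conj g⁻¹).toMonoidHom ≤ E := by
      rintro _ ⟨u, hu, rfl⟩
      obtain ⟨q, hq, e⟩ := hle hu
      have : (MulAut.conj g⁻¹) u = q := by
        rw [← e]; simp [mul_assoc]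
      simp only [MulEquiv.coe_toMonoidHom, this]
      exact ⟨hQS hq, by rw [← this, ← map_mul, hu.2, map_one]⟩
    have hmap' := Subgroup.eq_of_le_of_card_ge hmap
      (Nat.card_congr (E.equivMapOfInjective _ (MulAut.conj g⁻¹).injective).toEquiv).le
    intro t ht
    rw [← hmap'] at ht
    obtain ⟨u, hu, rfl⟩ := ht
    obtain ⟨q, hq, e⟩ := hle hu
    simp only [MulEquiv.coe_toMonoidHom]
    rw [← e]
    simpa [mul_assoc] using hq
  have hc1 := hgrow Q hQS hEQ
  have hc1' := hgrow Q' hQ'S hEQ'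
  have hQ1M : Q1 ≤ K ⊔ Q := sup_le le_sup_right ((hinK Q hQ2 hQS).trans le_sup_left)
  have hQ1M' : Q1' ≤ K' ⊔ Q' := sup_le le_sup_right ((hinK Q' hQ2' hQ'S).trans le_sup_left)
  -- Sylow subgroups of `M` and `M'`
  have hsyl : ∀ (M A : Subgroup G), A ≤ M → IsPGroup 2 A → ∃ T : Subgroup G, A ≤ T ∧ T ≤ M ∧ IsPGroup 2 T ∧
      ∀ B : Subgroup G, B ≤ M → IsPGroup 2 B → ∃ c ∈ M, ∀ b ∈ B, c * b * c⁻¹ ∈ T := by
    intro M A hAM hA
    obtain ⟨T, hT⟩ := (hA.comap_of_injective M.subtype (Subgroup.subtype_injective M)).exists_le_sylow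
    refine ⟨(T : Subgroup M).map M.subtype, fun a ha => ⟨⟨a, hAM ha⟩, hT ha, rfl⟩, map_subtype_le _,
      T.2.map _, fun B hBM hB => ?_⟩
    obtain ⟨U, hU⟩ := (hB.comap_of_injective M.subtype (Subgroup.subtype_injective M)).exists_le_sylow
    obtain ⟨c, hc⟩ := MulAction.exists_smul_eq M U T
    refine ⟨c, c.2, fun b hb => ?_⟩
    refine ⟨c * ⟨b, hBM hb⟩ * c⁻¹, ?_, rfl⟩
    rw [← hc, SetLike.mem_coe, Sylow.coe_subgroup_smul]
    exact smul_mem_pointwise_smul _ (MulAut.conj c) _ (hU hb)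
  have hmove : ∀ (T : Subgroup G), IsPGroup 2 T → ∃ a : G, ∀ t ∈ T, a * t * a⁻¹ ∈ (S : Subgroup G) := by
    intro T hT
    obtain ⟨U, hU⟩ := hT.exists_le_sylow
    obtain ⟨a, rfl⟩ := MulAction.exists_smul_eq G U S
    exact ⟨a, fun t ht => by
      rw [Sylow.coe_subgroup_smul]; exact smul_mem_pointwise_smul _ (MulAut.conj a) _ (hU ht)⟩
  obtain ⟨T1, hQ1T1, hT1M, hT1, -⟩ := hsyl _ _ hQ1M (S.2.to_le hQ1S)
  obtain ⟨T2, hQ1T2, hT2M, hT2, hT2c⟩ := hsyl _ _ hQ1M' (S.2.to_le hQ1'S)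
  obtain ⟨c, hcM, hc⟩ := hT2c (T1.map (MulAut.conj g).toMonoidHom) ((Subgroup.map_mono hT1M).trans hstabconj)
    (hT1.map _)
  set g' := c * g with hg'
  have hg'T : ∀ t ∈ T1, g' * t * g'⁻¹ ∈ T2 := fun t ht => by
    have := hc _ ⟨t, ht, rfl⟩
    simpa [hg', mul_assoc] using this
  obtain ⟨a, ha⟩ := hmove T1 hT1
  obtain ⟨b, hb⟩ := hmove T2 hT2
  have hjlt : ∀ B : Subgroup G, B ≤ (S : Subgroup G) → Nat.card Q < Nat.card B → ∀ g₀ : G,
      (∀ q ∈ B, g₀ * q * g₀⁻¹ ∈ (S : Subgroup G)) → ∀ r ∈ B, r ∈ cent S h → g₀ * r * g₀⁻¹ ∈ cent S h := by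
    intro B hB hlt
    have h1 := Subgroup.card_le_of_le hB
    exact ih (Nat.card (S : Subgroup G) - Nat.card B) (by omega) B hB (by omega)
  have hr1 : a * r * a⁻¹ ∈ cent S h :=
    hjlt Q1 hQ1S hc1 a (fun q hq => ha q (hQ1T1 hq)) r (le_sup_left (b := E ⊓ normalizer (Q : Set G)) hr) hrR
  have hTa : T1.map (MulAut.conj a).toMonoidHom ≤ (S : Subgroup G) := by
    rintro _ ⟨t, ht, rfl⟩; exact ha t ht
  have hcTa : Nat.card Q < Nat.card (T1.map (MulAut.conj a).toMonoidHom) := by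
    rw [← Nat.card_congr (T1.equivMapOfInjective _ (MulAut.conj a).injective).toEquiv]
    exact lt_of_lt_of_le hc1 (Subgroup.card_le_of_le hQ1T1)
  have hr2 : b * g' * r * (b * g')⁻¹ ∈ cent S h := by
    have := hjlt _ hTa hcTa (b * g' * a⁻¹) (by
      rintro _ ⟨t, ht, rfl⟩
      have := hb _ (hg'T t ht)
      simp only [MulEquiv.coe_toMonoidHom, MulAut.conj_apply]
      simpa [mul_assoc] using this) (a * r * a⁻¹)
      ⟨r, hQ1T1 (le_sup_left (b := E ⊓ normalizer (Q : Set G)) hr), rfl⟩ hr1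
    simpa [mul_assoc] using this
  have hMpres : ∀ k ∈ K' ⊔ Q', k ∈ normalizer (Q' : Set G) ∧ ∀ q ∈ Q', q ∈ cent S h → k * q * k⁻¹ ∈ cent S h := by
    intro k hk
    rw [sup_eq_closure] at hk
    induction hk using Subgroup.closure_induction'' with
    | one => exact ⟨one_mem _, fun q _ hq => by simpa using hq⟩
    | inv_mem x hx =>
      rcases hx with hx | hx
      · have hx' : x⁻¹ ∈ K' := inv_mem hx
        refine ⟨hx'.1, fun q hq hqR => ?_⟩
        have hq' := (mem_normalizer_iff.mp hx'.1 q).mp hq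
        have hin : x⁻¹ * q * x⁻¹⁻¹ * q⁻¹ ∈ E := ⟨hQ'S (mul_mem hq' (inv_mem hq)), hx'.2 q hq⟩
        have := mul_mem (invol_le_cent S h hin) hqR
        rwa [inv_mul_cancel_right] at this
      · exact ⟨le_normalizer (inv_mem hx), fun q _ hqR => conj_mem_cent S h (hQ'S (inv_mem hx)) hqR⟩
    | mem x hx =>
      rcases hx with hx | hx
      · refine ⟨hx.1, fun q hq hqR => ?_⟩
        have hq' := (mem_normalizer_iff.mp hx.1 q).mp hq
        have hin : x * q * x⁻¹ * q⁻¹ ∈ E := ⟨hQ'S (mul_mem hq' (inv_mem hq)), hx.2 q hq⟩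
        have := mul_mem (invol_le_cent S h hin) hqR
        rwa [inv_mul_cancel_right] at this
      · exact ⟨le_normalizer hx, fun q _ hqR => conj_mem_cent S h (hQ'S hx) hqR⟩
    | mul x y _ _ hx hy =>
      refine ⟨mul_mem hx.1 hy.1, fun q hq hqR => ?_⟩
      have := hx.2 _ ((mem_normalizer_iff.mp hy.1 q).mp hq) (hy.2 q hq hqR)
      simpa [mul_assoc] using this
  have hcinv := hMpres c⁻¹ (inv_mem hcM)
  have hgr : g * r * g⁻¹ ∈ Q' := ⟨r, hr, rfl⟩
  have hg'r : g' * r * g'⁻¹ ∈ Q' := by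
    have := (mem_normalizer_iff.mp (inv_mem_iff.mp hcinv.1) _).mp hgr
    simpa [hg', mul_assoc] using this
  have hQb : Q1'.map (MulAut.conj b).toMonoidHom ≤ (S : Subgroup G) := by
    rintro _ ⟨t, ht, rfl⟩; exact hb t (hQ1T2 ht)
  have hcQb : Nat.card Q < Nat.card (Q1'.map (MulAut.conj b).toMonoidHom) := by
    rw [← Nat.card_congr (Q1'.equivMapOfInjective _ (MulAut.conj b).injective).toEquiv, ← hcardQ]
    exact hc1'
  have hr3 : g' * r * g'⁻¹ ∈ cent S h := by
    have := hjlt _ hQb hcQb b⁻¹ (by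
      rintro _ ⟨t, ht, rfl⟩
      simp only [MulEquiv.coe_toMonoidHom, MulAut.conj_apply]
      simpa [mul_assoc] using hQ1'S ht) (b * g' * r * (b * g')⁻¹)
      ⟨g' * r * g'⁻¹, le_sup_left (b := E ⊓ normalizer (Q' : Set G)) hg'r, by simp [mul_assoc]⟩ hr2
    simpa [mul_assoc] using this
  have := hcinv.2 _ hg'r hr3
  simpa [hg', mul_assoc] using this

/-- Involutions of a Sylow 2-subgroup are central in it. -/
theorem involution_comm (h : Hyp G) {t : G} (ht : t ∈ (S : Subgroup G)) (ht2 : t * t = 1) {x : G}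
    (hx : x ∈ (S : Subgroup G)) : t * x = x * t := by
  suffices hxR : x ∈ cent S h from mem_centralizer_iff.mp (Subgroup.mem_inf.mp hxR).2 t ⟨ht, ht2⟩
  obtain ⟨T, hxT, hT⟩ := exists_sylow_centralizing h (two_pow_of_mem S.2 hx)
  obtain ⟨g, hg⟩ := MulAction.exists_smul_eq G T S
  have hS : ∀ s, s ∈ (S : Subgroup G) ↔ g⁻¹ * s * g ∈ (T : Subgroup G) := by
    intro s
    rw [← hg, Sylow.coe_subgroup_smul, Subgroup.mem_pointwise_smul_iff_inv_smul_mem]
    simp [MulAut.smul_def]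
  set z := g * x * g⁻¹ with hz
  have hzS : z ∈ (S : Subgroup G) := by
    rw [hS, show g⁻¹ * z * g = x by rw [hz]; group]; exact hxT
  have hzR : z ∈ cent S h := by
    refine Subgroup.mem_inf.mpr ⟨hzS, mem_centralizer_iff.mpr fun u hu => ?_⟩
    have h1 := hT _ ((hS u).mp hu.1)
    calc u * z = g * ((g⁻¹ * u * g) * x) * g⁻¹ := by rw [hz]; group
      _ = g * (x * (g⁻¹ * u * g)) * g⁻¹ := by rw [h1]
      _ = z * u := by rw [hz]; group
  have := conj_cent S h (Nat.card (S : Subgroup G)) (zpowers z) (zpowers_le.mpr hzS) (Nat.le_add_left _ _) g⁻¹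
    (by
      rintro _ ⟨j, rfl⟩
      rw [← conj_zpow, show g⁻¹ * z * g⁻¹⁻¹ = x by rw [hz]; group]
      exact Subgroup.zpow_mem _ hx j) z (mem_zpowers z) hzR
  rwa [show g⁻¹ * z * g⁻¹⁻¹ = x by rw [hz]; group] at this

theorem hyp_centralizer (h : Hyp G) {u : G} (hu : u * u = 1) : Hyp (centralizer ({u} : Set G)) := by
  rintro ⟨y, hy⟩ hy2 hdvd
  rw [Subgroup.orderOf_mk] at hy2
  obtain ⟨T0, hyT0, hT0⟩ := exists_sylow_centralizing h hy2
  -- a Sylow subgroup centralising `y` and containing `u`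
  set C := centralizer ({y} : Set G) with hC
  have huC : u ∈ C := mem_centralizer_singleton_iff.mpr (mem_centralizer_singleton_iff.mp hy).symm
  have h2u : IsPGroup 2 (zpowers u) := IsPGroup.of_card_dvd_pow (n := 1) (by
    rw [Nat.card_zpowers, pow_one]; exact orderOf_dvd_of_pow_eq_one (by rw [sq, hu]))
  obtain ⟨V, hV⟩ := (h2u.comap_of_injective C.subtype (Subgroup.subtype_injective C)).exists_le_sylow
  obtain ⟨T, hT⟩ := (V.2.map C.subtype).exists_le_sylow
  have hT0C : (T0 : Subgroup G) ≤ C := fun t ht => mem_centralizer_singleton_iff.mpr (hT0 t ht)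
  have hcard : Nat.card (T : Subgroup G) ≤ Nat.card ((V : Subgroup C).map C.subtype) := by
    rw [← Nat.card_congr ((V : Subgroup C).equivMapOfInjective _ (Subgroup.subtype_injective _)).toEquiv,
      Nat.card_congr (T.equiv T0).toEquiv, Nat.card_congr (V.equiv (T0.subtype hT0C)).toEquiv]
    exact (Nat.card_congr (subgroupOfEquivOfLe hT0C).toEquiv).ge
  have e := Subgroup.eq_of_le_of_card_ge hT hcard
  have huT : u ∈ (T : Subgroup G) := hT ⟨⟨u, huC⟩, hV (mem_zpowers u), rfl⟩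
  have hTC : (T : Subgroup G) ≤ C := e.ge.trans (map_subtype_le _)
  have hTD : (T : Subgroup G) ≤ centralizer {u} := fun t ht =>
    mem_centralizer_singleton_iff.mpr (involution_comm T h huT hu ht).symm
  set D := centralizer ({u} : Set G) with hD
  have hle : (T : Subgroup G).subgroupOf D ≤ centralizer ({⟨y, hy⟩} : Set D) := by
    intro t ht
    rw [mem_centralizer_singleton_iff]
    exact Subtype.ext (mem_centralizer_singleton_iff.mp (hTC ht))
  have h1 := Nat.dvd_trans hdvd (index_dvd_of_le hle)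
  rw [show (T : Subgroup G).subgroupOf D = ((T.subtype hTD : Sylow 2 D) : Subgroup D) from rfl] at h1
  exact (T.subtype hTD).not_dvd_index' index_ne_zero_of_finite h1

theorem hyp_quotient (h : Hyp G) (N : Subgroup G) [N.Normal] : Hyp (G ⧸ N) := by
  rintro yb ⟨k, hk⟩ hdvd
  obtain ⟨y0, rfl⟩ := QuotientGroup.mk'_surjective N yb
  obtain ⟨a, m, hm, hord⟩ := Nat.exists_eq_two_pow_mul_odd (orderOf_pos y0).ne'
  obtain ⟨l, -, hl⟩ := Nat.exists_mul_mod_eq_one_of_coprime
    (show m.Coprime (2 ^ (k + 1)) from Nat.Coprime.pow_right _ (Nat.coprime_two_right.mpr hm))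
    (show 1 < 2 ^ (k + 1) from Nat.one_lt_two_pow (Nat.succ_ne_zero k))
  set y := y0 ^ (m * l) with hy
  have hy2 : ∃ j : ℕ, orderOf y = 2 ^ j := by
    have : orderOf y ∣ 2 ^ a := orderOf_dvd_of_pow_eq_one (by
      rw [hy, ← pow_mul, show m * l * 2 ^ a = 2 ^ a * m * l by ring, ← hord, pow_mul, pow_orderOf_eq_one, one_pow])
    obtain ⟨j, -, hj⟩ := (Nat.dvd_prime_pow Nat.prime_two).mp this
    exact ⟨j, hj⟩
  have hmk : QuotientGroup.mk' N y = QuotientGroup.mk' N y0 := by
    rw [hy, map_pow]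
    conv_rhs => rw [← pow_one (QuotientGroup.mk' N y0)]
    refine pow_eq_pow_of_modEq ?_ (show (QuotientGroup.mk' N y0) ^ 2 ^ (k + 1) = 1 by
      rw [pow_succ, pow_mul, ← hk, pow_orderOf_eq_one, one_pow])
    rw [Nat.ModEq, hl, Nat.one_mod_eq_one.mpr]
    exact (Nat.one_lt_two_pow (Nat.succ_ne_zero k)).ne'
  apply h y hy2
  refine hdvd.trans ((index_dvd_of_le ?_).trans (index_map_dvd _ (QuotientGroup.mk'_surjective N)))
  rintro _ ⟨c, hc, rfl⟩
  rw [← hmk, mem_centralizer_singleton_iff, ← map_mul, ← map_mul, mem_centralizer_singleton_iff.mp hc]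

universe u

theorem comm_aux : ∀ (n : ℕ) (G : Type u) [Group G] [Finite G], Nat.card G ≤ n → Hyp G →
    ∀ (S : Sylow 2 G), ∀ a ∈ (S : Subgroup G), ∀ b ∈ (S : Subgroup G), a * b = b * a := by
  intro n
  induction n with
  | zero => intro G _ _ hG; exact absurd hG (not_le.mpr Nat.card_pos)
  | succ n ih =>
    intro G _ _ hG h S a ha b hb
    by_cases hex : ∃ u ∈ (S : Subgroup G), u * u = 1 ∧ u ∉ center G
    · obtain ⟨u, huS, hu, huc⟩ := hex
      set D := centralizer ({u} : Set G) with hD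
      have hSD : (S : Subgroup G) ≤ D := fun t ht =>
        mem_centralizer_singleton_iff.mpr (involution_comm S h huS hu ht).symm
      have hlt : Nat.card D < Nat.card G := by
        refine lt_of_le_of_ne (card_le_card_group _) fun e => huc ?_
        rw [card_eq_iff_eq_top] at e
        rw [mem_center_iff]
        intro g
        exact mem_centralizer_singleton_iff.mp (e ▸ mem_top g : g ∈ D)
      exact congrArg Subtype.val
        (ih D (by omega) (hyp_centralizer h hu) (S.subtype hSD) ⟨a, hSD ha⟩ ha ⟨b, hSD hb⟩ hb)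
    · push Not at hex
      -- commutators lie in every subgroup of order two in the centre
      have hcomm : ∀ u ∈ (S : Subgroup G), u * u = 1 → u ≠ 1 → a * b * a⁻¹ * b⁻¹ ∈ zpowers u := by
        intro u huS hu hu1
        have hn : (zpowers u).Normal := by
          refine ⟨fun w hw g => ?_⟩
          have := (zpowers_le.mpr (hex u huS hu) : zpowers u ≤ center G) hw
          rwa [mem_center_iff.mp this g, mul_inv_cancel_right]
        have hlt : Nat.card (G ⧸ zpowers u) < Nat.card G := by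
          have h1 := card_eq_card_quotient_mul_card_subgroup (zpowers u)
          have h2 : 1 < Nat.card (zpowers u) := by
            rw [Nat.card_zpowers]
            refine lt_of_le_of_ne (orderOf_pos u) fun e => hu1 (orderOf_eq_one_iff.mp e.symm)
          have h3 : 0 < Nat.card (G ⧸ zpowers u) := Nat.card_pos
          nlinarith
        have h1 := ih (G ⧸ zpowers u) (by omega) (hyp_quotient h (zpowers u))
          (S.mapSurjective (QuotientGroup.mk'_surjective (zpowers u)))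
          _ (mem_map_of_mem _ ha) _ (mem_map_of_mem _ hb)
        rw [← QuotientGroup.eq_one_iff]
        show (QuotientGroup.mk' (zpowers u)) _ = 1
        rw [map_mul, map_mul, map_mul, map_inv, map_inv, h1]
        group
      by_cases hk : a * b * a⁻¹ * b⁻¹ = 1
      · rwa [mul_inv_eq_one, mul_inv_eq_iff_eq_mul] at hk
      -- a single involution
      have hu2 : CfsgLib.TwoGroupsQ.HasUniqueOrderP (S : Subgroup G) 2 := by
        refine CfsgLib.TwoGroupsQ.hasUniqueOrderP_two ?_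
        rintro ⟨v, hv⟩ ⟨w, hw⟩ hv2 hv1 hw2 hw1
        rw [sq, Subtype.ext_iff, Subgroup.coe_mul, OneMemClass.coe_one] at hv2 hw2
        simp only [ne_eq, Subgroup.mk_eq_one] at hv1 hw1
        have hcases : ∀ z : G, z * z = 1 → ∀ y ∈ zpowers z, y = 1 ∨ y = z := by
          rintro z hz _ ⟨j, rfl⟩
          rcases Int.even_or_odd j with ⟨i, rfl⟩ | ⟨i, rfl⟩
          · left; show z ^ (i + i) = 1; rw [← two_mul, zpow_mul, zpow_two, hz, one_zpow]
          · right; show z ^ (2 * i + 1) = z; rw [zpow_add_one, zpow_mul, zpow_two, hz, one_zpow, one_mul]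
        have e1 := (hcases v hv2 _ (hcomm v hv hv2 hv1)).resolve_left hk
        have e2 := (hcases w hw2 _ (hcomm w hw hw2 hw1)).resolve_left hk
        exact Subtype.ext (e1.symm.trans e2)
      rcases CfsgLib.TwoGroupsQ.isCyclic_or_quaternion S.2 hu2 with hc | ⟨-, m, hm, ⟨e⟩⟩
      · let _ : CommGroup (S : Subgroup G) := IsCyclic.commGroup
        exact congrArg Subtype.val (mul_comm (⟨a, ha⟩ : (S : Subgroup G)) ⟨b, hb⟩)
      · exfalso
        set x : (S : Subgroup G) := e.symm (QuaternionGroup.a 1)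
        set w : (S : Subgroup G) := e.symm (QuaternionGroup.xa 0)
        have hxo : orderOf (x : G) = 2 * 2 ^ m := by
          rw [orderOf_coe, MulEquiv.orderOf_eq, QuaternionGroup.orderOf_a_one]
        have hinv : w * x = x⁻¹ * w := by
          apply e.injective
          simp only [x, w, map_mul, map_inv, MulEquiv.apply_symm_apply, QuaternionGroup.xa_mul_a]
          show _ = QuaternionGroup.a (-1) * QuaternionGroup.xa 0
          rw [QuaternionGroup.a_mul_xa]
          congr 1; ring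
        have h2 := sq_eq_one_of_inverted h (x := (x : G)) (g := (w : G)) ⟨m + 1, by rw [hxo]; ring⟩ (by
          have := congrArg Subtype.val hinv
          simp only [Subgroup.coe_mul, Subgroup.coe_inv] at this
          rw [this, mul_inv_cancel_right])
        have h3 := orderOf_dvd_of_pow_eq_one (show (x : G) ^ 2 = 1 by rw [sq, h2])
        rw [hxo] at h3
        have h4 := Nat.le_of_dvd two_pos h3
        have : 2 ≤ 2 ^ m := Nat.le_self_pow (by omega) 2
        omega

end CfsgLib.OddClassTwo
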